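import Cfsg.Agent.SE.Bender2
import Cfsg.Agent.Num.Zsigmondy
import Cfsg.Agent.Classical.DicksonCount
import Mathlib.LinearAlgebra.Matrix.GeneralLinearGroup.Card
import Mathlib.LinearAlgebra.Eigenspace.Zero

/-! `𝔽₂`-representations (helper14): `dm ρ g = dim [V, g]`, dihedral and Frobenius bounds. -/
namespace Cfsg.Agent.SE
open Module LinearMap

variable {G V : Type*} [Group G] [AddCommGroup V] [Module (ZMod 2) V] [Module.Finite (ZMod 2) V]
  (ρ : Representation (ZMod 2) G V)

/-- `dim [V, g]`. -/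
noncomputable def dm (g : G) : ℕ := finrank (ZMod 2) (range (ρ g - 1))

theorem dm_le (g : G) : dm ρ g ≤ finrank (ZMod 2) V := Submodule.finrank_le _

theorem dm_mul (g h : G) : dm ρ (g * h) ≤ dm ρ g + dm ρ h := by
  have : range (ρ (g * h) - 1) ≤ range (ρ g - 1) ⊔ (range (ρ h - 1)).map (ρ g) := by
    rintro _ ⟨v, rfl⟩
    exact Submodule.mem_sup.2 ⟨_, ⟨v, rfl⟩, _, ⟨_, ⟨v, rfl⟩, rfl⟩, by simp⟩
  exact (Submodule.finrank_mono this).trans ((Submodule.finrank_add_le_finrank_add_finrank _ _).trans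
    (Nat.add_le_add_left (Submodule.finrank_map_le _ _) _))

theorem dm_conj {g h : G} (c : IsConj g h) : dm ρ h ≤ dm ρ g := by
  obtain ⟨x, rfl⟩ := isConj_iff.1 c
  refine (Submodule.finrank_mono ?_).trans (Submodule.finrank_map_le (ρ x) _)
  rintro _ ⟨v, rfl⟩
  exact ⟨_, ⟨ρ x⁻¹ v, rfl⟩, by simp⟩

theorem dm_pow (g : G) (n : ℕ) : dm ρ (g ^ n) ≤ dm ρ g := by
  refine Submodule.finrank_mono ?_
  rintro _ ⟨v, rfl⟩
  exact ⟨(∑ i ∈ Finset.range n, ρ g ^ i) v, by rw [map_pow, ← mul_geom_sum, Module.End.mul_apply]⟩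

variable {ρ} in
theorem dm_pos (hρ : Function.Injective ρ) {g : G} (h : g ≠ 1) : 0 < dm ρ g :=
  Nat.pos_of_ne_zero fun e => h (hρ (by
    rw [map_one, ← sub_eq_zero, ← range_eq_bot]; exact Submodule.finrank_eq_zero.1 e))

omit [Module.Finite (ZMod 2) V] in
theorem add_self2 (v : V) : v + v = 0 := by
  rw [← two_smul (ZMod 2), show (2 : ZMod 2) = 0 from rfl, zero_smul]

theorem two_range_le {J : Module.End (ZMod 2) V} (h : J * J = 1) :
    2 * finrank (ZMod 2) (range (J - 1)) ≤ finrank (ZMod 2) V ∧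
      finrank (ZMod 2) V ≤ 2 * finrank (ZMod 2) (ker (J - 1)) := by
  have : range (J - 1) ≤ ker (J - 1) := by
    rintro _ ⟨v, rfl⟩
    have h1 : J (J v) = v := congr($h v)
    have := add_self2 (v - J v)
    simp only [mem_ker, LinearMap.sub_apply, map_sub, Module.End.one_apply, h1, ← this]; abel
  have := Submodule.finrank_mono this
  have := finrank_range_add_finrank_ker (J - 1)
  omega

theorem eq_zero_of_fix {x : G} {r : ℕ} (hr : Odd r) (hx : x ^ r = 1) {w : V} (hw : w ∈ range (ρ x - 1))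
    (h : ρ x w = w) : w = 0 := by
  obtain ⟨u, rfl⟩ := hw
  have h1 : ∀ i, (ρ x ^ i) ((ρ x - 1) u) = (ρ x - 1) u := fun i => by
    induction i with
    | zero => rfl
    | succ i ih => rw [pow_succ, Module.End.mul_apply, h, ih]
  have h2 : (∑ i ∈ Finset.range r, ρ x ^ i) ((ρ x - 1) u) = 0 := by
    rw [← Module.End.mul_apply, geom_sum_mul, ← map_pow, hx, map_one, sub_self, LinearMap.zero_apply]
  rwa [coe_sum, Finset.sum_apply, Finset.sum_congr rfl fun i _ => h1 i, Finset.sum_const, Finset.card_range,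
    ← Nat.cast_smul_eq_nsmul (ZMod 2), ZMod.natCast_eq_one_iff_odd.2 hr, one_smul] at h2

omit [Module.Finite (ZMod 2) V] in
theorem maps_range {x g : G} {n : ℕ} (h : g * x * g⁻¹ = x ^ n) :
    ∀ w ∈ range (ρ x - 1), ρ g w ∈ range (ρ x - 1) := by
  rintro _ ⟨v, rfl⟩
  refine ⟨(∑ i ∈ Finset.range n, ρ x ^ i) (ρ g v), ?_⟩
  rw [← Module.End.mul_apply, mul_geom_sum, ← map_pow, ← h]
  simp

theorem dvd_dm {x : G} {r : ℕ} (hr : r.Prime) (h2 : Odd r) (hx : x ^ r = 1) : r ∣ 2 ^ dm ρ x - 1 := by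
  classical
  have := Fact.mk hr
  have := Module.finite_of_finite (ZMod 2) (M := V)
  have := Fintype.ofFinite (range (ρ x - 1))
  have hm := maps_range ρ (x := x) (g := x) (n := 1) (by simp)
  let f : Function.End (range (ρ x - 1)) := fun w => ⟨ρ x w, hm _ w.2⟩
  have hf : ∀ n w, ((f ^ n) w : V) = ρ (x ^ n) w := fun n w => by
    induction n with
    | zero => simp; rfl
    | succ n ih => rw [pow_succ', pow_succ', map_mul, Module.End.mul_apply, ← ih]; rfl
  have h1 := Equiv.Perm.card_fixedPoints_modEq (f := f) (p := r) (n := 1) (funext fun w => Subtype.ext (by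
    rw [hf, pow_one, hx, map_one]; rfl))
  rw [(Fintype.card_eq_one_iff (α := f.fixedPoints)).2 ⟨⟨0, Subtype.ext (map_zero (ρ x))⟩, fun w => Subtype.ext
    (Subtype.ext (eq_zero_of_fix ρ h2 hx w.1.2 (congrArg Subtype.val w.2)))⟩, Module.card_eq_pow_finrank (K := ZMod 2),
    ZMod.card] at h1
  exact (Nat.modEq_iff_dvd' Nat.one_le_two_pow).1 h1.symm

theorem even_dm {x j : G} {r : ℕ} (h2 : Odd r) (hx : x ^ r = 1) (hj : j * j = 1) (hi : j * x * j⁻¹ = x⁻¹) :
    Even (dm ρ x) := by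
  have hx' : x⁻¹ = x ^ (r - 1) := by
    rw [inv_eq_iff_mul_eq_one, ← pow_succ', Nat.sub_add_cancel h2.pos, hx]
  have m1 := maps_range ρ (hi.trans hx')
  have m2 := maps_range ρ (x := x) (g := j * x) (n := r - 1) (by rw [← hx', ← hi]; group)
  have H : ∀ {g : G} (m : ∀ w ∈ range (ρ x - 1), ρ g w ∈ range (ρ x - 1)), g * g = 1 →
      dm ρ x ≤ 2 * finrank (ZMod 2) (ker ((ρ g).restrict m - 1)) := fun {g} m h =>
    (two_range_le (LinearMap.ext fun w => Subtype.ext (by
      show ρ g (ρ g w) = w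
      rw [← Module.End.mul_apply, ← map_mul, h, map_one, Module.End.one_apply]))).2
  have h1 := H m1 hj
  have h3 := H m2 (by rw [← mul_assoc, mul_inv_eq_iff_eq_mul.1 hi, mul_assoc x⁻¹, hj, mul_one, inv_mul_cancel])
  have h4 := Submodule.finrank_add_finrank_le_of_disjoint (s := ker ((ρ j).restrict m1 - 1))
    (t := ker ((ρ (j * x)).restrict m2 - 1)) (Submodule.disjoint_def.2 fun w a b => Subtype.ext (by
      have a : ρ j w = w := congrArg Subtype.val (sub_eq_zero.1 a)
      have b : ρ (j * x) w = w := congrArg Subtype.val (sub_eq_zero.1 b)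
      refine eq_zero_of_fix ρ h2 hx w.2 ?_
      have := congrArg (ρ j) b
      rwa [← Module.End.mul_apply, ← map_mul, ← mul_assoc, hj, one_mul, a] at this))
  exact ⟨finrank (ZMod 2) (ker ((ρ j).restrict m1 - 1)), by unfold dm at *; omega⟩

variable {ρ}

theorem lt_of_pow (hρ : Function.Injective ρ) {s : G} {a b : ℕ} (h : s ^ 2 ^ b = 1) (h' : s ^ 2 ^ a ≠ 1) :
    2 ^ a < finrank (ZMod 2) V := by
  have H : ∀ n, (ρ s - 1) ^ 2 ^ n = ρ (s ^ 2 ^ n) - 1 := fun n => by
    induction n with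
    | zero => simp
    | succ n ih =>
      rw [pow_succ, pow_mul, pow_mul, ih, map_pow ρ _ 2]
      ext v
      have := add_self2 (v - ρ (s ^ 2 ^ n) v)
      simp only [sq, Module.End.mul_apply, LinearMap.sub_apply, map_sub, Module.End.one_apply]
      rw [← sub_eq_zero, ← this]; abel
  have hn : IsNilpotent (ρ s - 1) := ⟨_, by rw [H b, h, map_one, sub_self]⟩
  have := (ρ s - 1).aeval_self_charpoly
  rw [hn.charpoly_eq_X_pow_finrank, map_pow, Polynomial.aeval_X] at this
  by_contra! hl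
  exact h' (hρ (by rw [map_one, ← sub_eq_zero, ← H, pow_eq_zero_of_le hl this]))

theorem card_dvd_GL [Finite G] (hρ : Function.Injective ρ) :
    Nat.card G ∣ ∏ i ∈ Finset.range (finrank (ZMod 2) V), (2 ^ finrank (ZMod 2) V - 2 ^ i) := by
  have := Matrix.card_GL_field (𝔽 := ZMod 2) (finrank (ZMod 2) V)
  rw [ZMod.card, Fin.prod_univ_eq_prod_range (fun i => 2 ^ finrank (ZMod 2) V - 2 ^ i)] at this
  rw [← this, ← Nat.card_congr (Units.mapEquiv (toMatrixAlgEquiv (finBasis (ZMod 2) V)).toMulEquiv).toEquiv]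
  exact Subgroup.card_dvd_of_injective ρ.asGroupHom fun a b h => hρ (congrArg Units.val h)

/-- A 2-group whose norm map is non-zero has a free submodule. -/
theorem card_le_of_norm [Fintype G] (hG : IsPGroup 2 G) {w : V} (hw : ∑ s, ρ s w ≠ 0) :
    Nat.card G ≤ finrank (ZMod 2) V := by
  classical
  let φ : (G → ZMod 2) →ₗ[ZMod 2] V := Fintype.linearCombination (ZMod 2) fun s => ρ s w
  rw [Nat.card_eq_fintype_card, ← finrank_fintype_fun_eq_card (ZMod 2)]
  refine finrank_le_finrank_of_injective (f := φ) (ker_eq_bot.1 (by_contra fun h0 => hw ?_))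
  letI : MulAction G (ker φ) :=
    { smul g f := ⟨fun s => f.1 (g⁻¹ * s), by
        have := congrArg (ρ g) (mem_ker.1 f.2)
        rw [map_zero, Fintype.linearCombination_apply, map_sum] at this
        rw [mem_ker, Fintype.linearCombination_apply, ← this, ← Equiv.sum_comp (Equiv.mulLeft g)]
        simp⟩
      one_smul f := Subtype.ext (funext fun s => congrArg f.1 (by simp))
      mul_smul a b f := Subtype.ext (funext fun s => congrArg f.1 (by simp [mul_assoc])) }
  obtain ⟨f, hf, h1⟩ := hG.exists_fixed_point_of_prime_dvd_card_of_fixed_point (ker φ) (a := 0) (by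
    rw [Module.natCard_eq_pow_finrank (K := ZMod 2), Nat.card_zmod]
    exact dvd_pow_self 2 fun e => h0 (Submodule.finrank_eq_zero.1 e)) fun g => rfl
  have h2 : ∀ s, f.1 s = f.1 1 := fun s => by
    have := congrFun (congrArg Subtype.val (hf s)) s
    exact this.symm.trans (congrArg f.1 (inv_mul_cancel s))
  have h3 : f.1 1 = 1 := by
    have : f.1 1 ≠ 0 := fun e => h1 (Subtype.ext (funext fun s => ((h2 s).trans e).symm))
    revert this; generalize f.1 1 = c; revert c; decide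
  have := mem_ker.1 f.2
  rw [Fintype.linearCombination_apply] at this
  simpa only [h2, h3, one_smul] using this

open Subgroup BG in
/-- A Frobenius group `PS` with `S` a 2-group needs dimension `≥ |S|`. -/
theorem card_le_of_frob [Finite G] (hρ : Function.Injective ρ) {P S : Subgroup G} (hS : IsPGroup 2 S)
    (ho : Odd #P) (h0 : P ≠ ⊥) (hn : S ≤ N[P]) (hf : ∀ s ∈ S, s ≠ 1 → ∀ x ∈ P, Commute x s → x = 1) :
    #S ≤ finrank (ZMod 2) V := by
  classical
  have := Fintype.ofFinite S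
  have := Fintype.ofFinite P
  by_contra! hl
  have H : ∀ w, ∑ s : S, ρ s w = 0 := fun w => by_contra fun e =>
    (card_le_of_norm (ρ := ρ.comp S.subtype) hS e).not_gt hl
  obtain ⟨y, hy, h1⟩ := trivgPn.1 h0
  refine h1 (hρ (LinearMap.ext fun u => ?_))
  have h2 : ∀ s : S, ∑ x : P, ρ (x * s * (x : G)⁻¹) (ρ y u - u) = if s = 1 then ρ y u - u else 0 := fun s => by
    split_ifs with e
    · simp [e, ← Nat.cast_smul_eq_nsmul (ZMod 2), ← Nat.card_eq_fintype_card, ZMod.natCast_eq_one_iff_odd.2 ho]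
    let σ : P → P := fun x => ⟨x * (s * (x : G)⁻¹ * (s : G)⁻¹), mul_mem x.2 (conj_mem_of_norm (hn s.2) (inv_mem x.2))⟩
    have hσ : σ.Bijective := Finite.injective_iff_bijective.1 fun a b h => by
      have h : (a : G) * (s * (a : G)⁻¹ * (s : G)⁻¹) = b * (s * (b : G)⁻¹ * (s : G)⁻¹) := congrArg Subtype.val h
      refine Subtype.ext (inv_mul_eq_one.1 (hf s s.2 (fun h => e (Subtype.ext h)) _ (mul_mem (inv_mem b.2) a.2) ?_)).symm
      calc (b : G)⁻¹ * a * s = (b : G)⁻¹ * (a * (s * (a : G)⁻¹ * (s : G)⁻¹)) * s * a := by group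
        _ = s * ((b : G)⁻¹ * a) := by rw [h]; group
    have h3 := hσ.sum_comp fun x : P => ρ (x * s) (ρ y u - u)
    have h4 := Equiv.sum_comp (Equiv.mulRight (⟨_, conj_mem_of_norm (hn s.2) hy⟩ : P)) fun x : P => ρ (x * s) u
    simp only [σ, mul_assoc, inv_mul_cancel, mul_one] at h3
    simp only [mul_assoc]
    rw [h3]
    simp only [map_sub, Finset.sum_sub_distrib, ← h4, ← Module.End.mul_apply, ← map_mul]
    simp [mul_assoc]
  have h3 := Finset.sum_congr rfl fun s (_ : s ∈ Finset.univ) => h2 s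
  rw [Finset.sum_comm, Finset.sum_ite_eq' , if_pos (Finset.mem_univ _)] at h3
  rw [map_one, Module.End.one_apply, ← sub_eq_zero, ← h3]
  refine Finset.sum_eq_zero fun x _ => ?_
  simp only [map_mul, Module.End.mul_apply, ← map_sum, H, map_zero]

end Cfsg.Agent.SE
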